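import Groth.Agent.GradedNormLib.Forms
import Mathlib.RingTheory.Ideal.KrullsHeightTheorem
import Mathlib.AlgebraicGeometry.ProjectiveSpectrum.Scheme

/-! # Two plane curves meet in points iff they are coprime -/

set_option autoImplicit false
set_option backward.isDefEq.respectTransparency false
set_option linter.style.haveILetI false

universe u

open MvPolynomial AlgebraicGeometry TopologicalSpace

noncomputable section

namespace Groth.Agent.PlaneCoprime

variable {k : Type u} [Field k]

local notation "S" => MvPolynomial (Fin 3) k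
local notation "𝒜" => CohB1.polyGrading 2 k
local notation "𝔪" => RingHom.ker (constantCoeff : MvPolynomial (Fin 3) k →+* k)

theorem three_le_height : (3 : ℕ∞) ≤ (𝔪).height := by
  let φ : ℕ → S →ₐ[k] S := fun j => aeval fun i => if j ≤ i.val then X i else 0
  let K : ℕ → Ideal S := fun j => RingHom.ker (φ j).toRingHom
  have : ∀ j, (K j).IsPrime := fun j => RingHom.ker_isPrime _
  have hlt : ∀ j : Fin 3, K j.val < K (j.val + 1) := by
    intro j
    have hcomp : (φ (j.val + 1)).comp (φ j.val) = φ (j.val + 1) := algHom_ext fun i => by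
      simp only [AlgHom.comp_apply, φ, aeval_X]
      split_ifs <;> simp <;> omega
    refine lt_of_le_of_ne (fun r hr => ?_) fun he => ?_
    · show φ (j.val + 1) r = 0
      rw [← hcomp, AlgHom.comp_apply, show φ j.val r = 0 from hr, map_zero]
    · have hmem : (X j : S) ∈ K (j.val + 1) := by
        show φ (j.val + 1) (X j) = 0
        simp [φ]
      rw [← he] at hmem
      have : φ j.val (X j) = 0 := hmem
      simp [φ] at this
  have hm : (𝔪) = K 3 := by
    have : φ 3 = (Algebra.ofId k _).comp (aeval (0 : Fin 3 → k)) := algHom_ext fun i => by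
      simp [φ, Nat.not_le.2 i.2]
    ext r
    show constantCoeff r = 0 ↔ φ 3 r = 0
    rw [this, AlgHom.comp_apply, show aeval (0 : Fin 3 → k) r = constantCoeff r from aeval_zero r]
    simp [Algebra.ofId_apply]
  rw [hm]
  have e1 := Ideal.height_add_one_le_of_lt_of_isPrime (hlt 0)
  have e2 := Ideal.height_add_one_le_of_lt_of_isPrime (hlt 1)
  have e3 := Ideal.height_add_one_le_of_lt_of_isPrime (hlt 2)
  refine le_trans ?_ e3
  refine le_trans ?_ (add_le_add_left e2 1)
  refine le_trans ?_ (add_le_add_left (add_le_add_left e1 1) 1)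
  rw [add_assoc, add_assoc]
  exact le_add_left (by norm_num)

theorem height_le_three (P : Ideal S) (hP : P ≠ ⊤) : P.height ≤ 3 := by
  have h := Ideal.height_le_ringKrullDim_of_ne_top hP
  rw [MvPolynomial.ringKrullDim_of_isNoetherianRing, ringKrullDim_eq_zero_of_field, zero_add, Nat.card_eq_fintype_card,
    Fintype.card_fin] at h
  exact WithBot.coe_le_coe.1 (h.trans (le_of_eq rfl))

/-- A prime of small height in a homogeneous situation is relevant. -/
theorem not_irrelevant_le (P : Ideal S) (hP : P.height ≤ 2) :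
    ¬ (HomogeneousIdeal.irrelevant 𝒜).toIdeal ≤ P := by
  intro hle
  have hm : (𝔪) ≤ P := by
    intro r hr
    refine hle ((HomogeneousIdeal.mem_irrelevant_iff _ _).2 ?_)
    show ((DirectSum.decompose 𝒜 r) 0 : S) = 0
    rw [show ((DirectSum.decompose 𝒜 r) 0 : S) = homogeneousComponent 0 r from decomposition.decompose'_apply r 0,
      homogeneousComponent_zero]
    rw [RingHom.mem_ker, constantCoeff_eq] at hr
    rw [hr, map_zero]
  exact absurd ((three_le_height.trans (Ideal.height_mono hm)).trans hP) (by decide)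

/-- The point of the projective plane at a homogeneous prime of height at most two. -/
def mkPoint (P : Ideal S) (hP : P.IsPrime) (hh : (P.homogeneousCore 𝒜).toIdeal = P) (h2 : P.height ≤ 2) :
    ProjectiveSpectrum 𝒜 :=
  { asHomogeneousIdeal := P.homogeneousCore 𝒜
    isPrime := by rw [hh]; exact hP
    not_irrelevant_le := fun hle => not_irrelevant_le P h2
      (le_of_le_of_eq (show (HomogeneousIdeal.irrelevant 𝒜).toIdeal ≤ (P.homogeneousCore 𝒜).toIdeal from hle) hh) }

theorem span_isHomogeneous {s : Set S} (h : ∀ x ∈ s, ∃ d, IsHomogeneous x d) : (Ideal.span s).IsHomogeneous 𝒜 :=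
  Ideal.homogeneous_span 𝒜 s fun x hx => by
    obtain ⟨d, hd⟩ := h x hx
    exact ⟨d, hd⟩

variable {f g : MvPolynomial (Fin 3) k} {n m : ℕ}

theorem nonempty_zeroLocus (hf : f.IsHomogeneous n) (hg : g.IsHomogeneous m) (hn : 0 < n) (hm : 0 < m) :
    (ProjectiveSpectrum.zeroLocus 𝒜 ({f, g} : Set S)).Nonempty := by
  classical
  have hJ : (Ideal.span ({f, g} : Set S)).IsHomogeneous 𝒜 := span_isHomogeneous (by
    rintro x (rfl | rfl)
    · exact ⟨n, hf⟩
    · exact ⟨m, hg⟩)
  have hle : Ideal.span ({f, g} : Set S) ≤ 𝔪 := Ideal.span_le.2 (by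
    rintro x (rfl | rfl)
    · rw [SetLike.mem_coe, RingHom.mem_ker, constantCoeff_eq]
      exact hf.coeff_eq_zero (by simpa using hn.ne)
    · rw [SetLike.mem_coe, RingHom.mem_ker, constantCoeff_eq]
      exact hg.coeff_eq_zero (by simpa using hm.ne))
  haveI : (𝔪).IsPrime := RingHom.ker_isPrime _
  obtain ⟨P, hP, -⟩ := Ideal.exists_minimalPrimes_le hle
  have hP' : P ∈ (Ideal.span (({f, g} : Finset S) : Set S)).minimalPrimes := by simpa using hP
  have h2 : P.height ≤ 2 :=
    (Ideal.height_le_card_of_mem_minimalPrimes_span_finset hP').trans (by exact_mod_cast Finset.card_le_two)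
  have hh := GradedNormLib.homogeneousCore_eq_of_minimal hJ hP
  refine ⟨mkPoint P hP.1.1 hh h2, fun x hx => ?_⟩
  show x ∈ (P.homogeneousCore 𝒜).toIdeal
  rw [hh]
  exact hP.1.2 (Ideal.subset_span hx)

theorem two_le_height (hfg : IsRelPrime f g) (hf0 : f ≠ 0) {P : Ideal S} [hP : P.IsPrime] (hfP : f ∈ P)
    (hgP : g ∈ P) : 2 ≤ P.height := by
  classical
  obtain ⟨π, hπ, hπf, hπP⟩ : ∃ π, Prime π ∧ π ∣ f ∧ π ∈ P := by
    have hfu : ¬ IsUnit f := fun hu => hP.ne_top (Ideal.eq_top_of_isUnit_mem _ hfP hu)
    obtain ⟨u, hu⟩ := UniqueFactorizationMonoid.factors_prod hf0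
    have hmem : (UniqueFactorizationMonoid.factors f).prod ∈ P :=
      (Ideal.mul_unit_mem_iff_mem P u.isUnit).1 (hu.symm ▸ hfP)
    obtain ⟨π, hπmem, hπP⟩ := (Ideal.IsPrime.multiset_prod_mem_iff_exists_mem hP _).1 hmem
    exact ⟨π, UniqueFactorizationMonoid.prime_of_factor π hπmem, UniqueFactorizationMonoid.dvd_of_mem_factors hπmem, hπP⟩
  haveI : (Ideal.span {π}).IsPrime := (Ideal.span_singleton_prime hπ.ne_zero).2 hπ
  have hlt : Ideal.span {π} < P := lt_of_le_of_ne ((Ideal.span_singleton_le_iff_mem _).2 hπP) fun h => by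
    rw [← h, Ideal.mem_span_singleton] at hgP
    exact hπ.not_isUnit (hfg hπf hgP)
  have h1 : (1 : ℕ∞) ≤ (Ideal.span {π}).height :=
    Ideal.one_le_height_span_singleton_of_mem_nonZeroDivisors (mem_nonZeroDivisors_of_ne_zero hπ.ne_zero)
  exact le_trans (le_of_eq_of_le (one_add_one_eq_two).symm (add_le_add h1 le_rfl)) (Ideal.height_add_one_le_of_lt_of_isPrime hlt)

theorem krullDim_eq_zero_iff (hf : f.IsHomogeneous n) (hg : g.IsHomogeneous m) (hn : 0 < n) (hm : 0 < m)
    (hf0 : f ≠ 0) :
    topologicalKrullDim ↥(ProjectiveSpectrum.zeroLocus 𝒜 ({f, g} : Set S)) = 0 ↔ IsRelPrime f g := by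
  classical
  set Z := ProjectiveSpectrum.zeroLocus 𝒜 ({f, g} : Set S)
  have hZ : IsClosed Z := ProjectiveSpectrum.isClosed_zeroLocus 𝒜 _
  haveI hne : Nonempty Z := (nonempty_zeroLocus hf hg hn hm).to_subtype
  haveI : Nonempty (IrreducibleCloseds Z) :=
    ⟨⟨closure {hne.some}, isIrreducible_singleton.closure, isClosed_closure⟩⟩
  haveI : T0Space (ProjectiveSpectrum 𝒜) := inferInstanceAs (T0Space ↥(Proj 𝒜))
  constructor
  · intro hdim
    by_contra hnot
    obtain ⟨h, hhf, hhg, hhu⟩ : ∃ h, h ∣ f ∧ h ∣ g ∧ ¬ IsUnit h := by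
      simpa [IsRelPrime] using hnot
    obtain ⟨π, hπi, hπh⟩ := WfDvdMonoid.exists_irreducible_factor hhu (fun e => hf0 (zero_dvd_iff.1 (e ▸ hhf)))
    have hπ : Prime π := UniqueFactorizationMonoid.irreducible_iff_prime.1 hπi
    set P : Ideal S := Ideal.span {π} with hPdef
    haveI hP : P.IsPrime := (Ideal.span_singleton_prime hπ.ne_zero).2 hπ
    have hfP : f ∈ P := Ideal.mem_span_singleton.2 (hπh.trans hhf)
    have hgP : g ∈ P := Ideal.mem_span_singleton.2 (hπh.trans hhg)
    have hP1 : P.height ≤ 1 := Ideal.height_span_singleton_le_one hπ.not_isUnit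
    -- the prime is homogeneous
    have hPh : (P.homogeneousCore 𝒜).toIdeal = P := by
      refine le_antisymm (Ideal.toIdeal_homogeneousCore_le _ _) ?_
      by_contra hlt
      have hlt' := lt_of_le_of_ne (Ideal.toIdeal_homogeneousCore_le 𝒜 P) fun e => hlt e.ge
      haveI : ((P.homogeneousCore 𝒜).toIdeal).IsPrime := Ideal.IsPrime.homogeneousCore hP
      have hcore : f ∈ (P.homogeneousCore 𝒜).toIdeal := by
        exact Ideal.mem_homogeneousCore_of_homogeneous_of_mem ⟨n, hf⟩ hfP
      have h0 : (1 : ℕ∞) ≤ (P.homogeneousCore 𝒜).toIdeal.height :=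
        le_trans (Ideal.one_le_height_span_singleton_of_mem_nonZeroDivisors (mem_nonZeroDivisors_of_ne_zero hf0))
          (Ideal.height_mono ((Ideal.span_singleton_le_iff_mem _).2 hcore))
      have := (add_le_add_left h0 1).trans ((Ideal.height_add_one_le_of_lt_of_isPrime hlt').trans hP1)
      exact absurd this (by decide)
    have hPhom : P.IsHomogeneous 𝒜 := hPh ▸ HomogeneousIdeal.isHomogeneous _
    obtain ⟨i, hi⟩ : ∃ i : Fin 3, (X i : S) ∉ P := by
      by_contra hall
      push Not at hall
      have hm' : (𝔪) ≤ P := (GradedNormLib.vertex_eq_span (n := 2)).le.trans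
        (Ideal.span_le.2 (by rintro _ ⟨i, rfl⟩; exact hall i))
      exact absurd ((three_le_height.trans (Ideal.height_mono hm')).trans hP1) (by decide)
    have hJ : (Ideal.span ({π, X i} : Set S)).IsHomogeneous 𝒜 := by
      rw [Ideal.span_insert]
      exact Ideal.IsHomogeneous.sup hPhom (span_isHomogeneous (by rintro x rfl; exact ⟨1, isHomogeneous_X _ _⟩))
    haveI : (𝔪).IsPrime := RingHom.ker_isPrime _
    have hle : Ideal.span ({π, X i} : Set S) ≤ 𝔪 := by
      rw [Ideal.span_insert]
      refine sup_le ?_ ((Ideal.span_singleton_le_iff_mem _).2 (by simp [RingHom.mem_ker]))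
      intro x hx
      have h0 := hPhom 0 hx
      rw [show ((DirectSum.decompose 𝒜 x) 0 : S) = homogeneousComponent 0 x from decomposition.decompose'_apply x 0,
        homogeneousComponent_zero] at h0
      by_contra hne'
      exact hP.ne_top (Ideal.eq_top_of_isUnit_mem _ h0
        ((IsUnit.mk0 _ (by simpa [RingHom.mem_ker, constantCoeff_eq] using hne')).map C))
    obtain ⟨Q, hQ, -⟩ := Ideal.exists_minimalPrimes_le hle
    have hQ' : Q ∈ (Ideal.span (({π, X i} : Finset S) : Set S)).minimalPrimes := by simpa using hQ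
    have hQ2 : Q.height ≤ 2 :=
      (Ideal.height_le_card_of_mem_minimalPrimes_span_finset hQ').trans (by exact_mod_cast Finset.card_le_two)
    have hQh := GradedNormLib.homogeneousCore_eq_of_minimal hJ hQ
    have hPQ : P ≤ Q := (Ideal.span_singleton_le_iff_mem _).2 (hQ.1.2 (Ideal.subset_span (Set.mem_insert _ _)))
    have hiQ : (X i : S) ∈ Q := hQ.1.2 (Ideal.subset_span (Set.mem_insert_of_mem _ rfl))
    let x : Z := ⟨mkPoint P hP hPh (hP1.trans (by decide)), by
      rintro t (rfl | rfl)
      · exact hPh.symm.le hfP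
      · exact hPh.symm.le hgP⟩
    let y : Z := ⟨mkPoint Q hQ.1.1 hQh hQ2, by
      rintro t (rfl | rfl)
      · exact hQh.symm.le (hPQ hfP)
      · exact hQh.symm.le (hPQ hgP)⟩
    have hxy : x ⤳ y := by
      rw [subtype_specializes_iff]
      refine (specializes_iff_mem_closure).2 ((ProjectiveSpectrum.le_iff_mem_closure 𝒜 x.1 y.1).1 ?_)
      show (P.homogeneousCore 𝒜) ≤ (Q.homogeneousCore 𝒜)
      exact Ideal.homogeneousCore_mono 𝒜 hPQ
    have hne' : x ≠ y := fun e => hi (by
      have : (P.homogeneousCore 𝒜) = (Q.homogeneousCore 𝒜) := congrArg (fun z : Z => z.1.asHomogeneousIdeal) e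
      rw [← hPh, this, hQh]
      exact hiQ)
    have hle' : (⟨closure {y}, isIrreducible_singleton.closure, isClosed_closure⟩ : IrreducibleCloseds Z) ≤
        ⟨closure {x}, isIrreducible_singleton.closure, isClosed_closure⟩ := hxy.closure_subset
    have := (Order.krullDim_nonpos_iff_forall_isMax.1 hdim.le) _ hle'
    exact hne' ((hxy.antisymm (specializes_iff_mem_closure.2 (this (subset_closure rfl)))).eq)
  · intro hfg
    refine le_antisymm (Order.krullDim_nonpos_iff_forall_isMax.2 fun C D hCD => ?_) Order.krullDim_nonneg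
    -- points of `Z` are closed
    have hpt : ∀ a b : Z, a ⤳ b → a = b := by
      intro a b hab
      by_contra hne'
      have hle : a.1.asHomogeneousIdeal ≤ b.1.asHomogeneousIdeal :=
        (ProjectiveSpectrum.le_iff_mem_closure 𝒜 a.1 b.1).2 (specializes_iff_mem_closure.1 ((subtype_specializes_iff a b).1 hab))
      haveI := a.1.isPrime
      haveI := b.1.isPrime
      have hlt : a.1.asHomogeneousIdeal.toIdeal < b.1.asHomogeneousIdeal.toIdeal := lt_of_le_of_ne hle fun e =>
        hne' (Subtype.ext (ProjectiveSpectrum.ext (HomogeneousIdeal.toIdeal_injective e)))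
      have ha := two_le_height hfg hf0 (P := a.1.asHomogeneousIdeal.toIdeal) (a.2 (Set.mem_insert _ _))
        (a.2 (Set.mem_insert_of_mem _ rfl))
      have hb : (3 : ℕ∞) ≤ b.1.asHomogeneousIdeal.toIdeal.height :=
        le_trans (le_of_eq_of_le (show (3 : ℕ∞) = 2 + 1 from rfl) (add_le_add ha le_rfl))
          (Ideal.height_add_one_le_of_lt_of_isPrime hlt)
      have hbhom : b.1.asHomogeneousIdeal.toIdeal.IsHomogeneous 𝒜 := HomogeneousIdeal.isHomogeneous _
      haveI : (𝔪).IsPrime := RingHom.ker_isPrime _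
      have hble : b.1.asHomogeneousIdeal.toIdeal ≤ 𝔪 := by
        intro x hx
        have h0 := hbhom 0 hx
        rw [show ((DirectSum.decompose 𝒜 x) 0 : S) = homogeneousComponent 0 x from decomposition.decompose'_apply x 0,
          homogeneousComponent_zero] at h0
        by_contra hne''
        exact b.1.isPrime.ne_top (Ideal.eq_top_of_isUnit_mem _ h0
          ((IsUnit.mk0 _ (by simpa [RingHom.mem_ker, constantCoeff_eq] using hne'')).map MvPolynomial.C))
      rcases hble.eq_or_lt with e | hlt'
      · refine b.1.not_irrelevant_le ?_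
        show (HomogeneousIdeal.irrelevant 𝒜).toIdeal ≤ b.1.asHomogeneousIdeal.toIdeal
        rw [e]
        intro r hr
        have h0 := (HomogeneousIdeal.mem_irrelevant_iff _ _).1 hr
        change ((DirectSum.decompose 𝒜 r) 0 : S) = 0 at h0
        rw [show ((DirectSum.decompose 𝒜 r) 0 : S) = homogeneousComponent 0 r from decomposition.decompose'_apply r 0,
          homogeneousComponent_zero, C_eq_zero] at h0
        rw [RingHom.mem_ker, constantCoeff_eq]
        exact h0
      · have := (add_le_add_left hb 1).trans ((Ideal.height_add_one_le_of_lt_of_isPrime hlt').trans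
          (height_le_three _ (RingHom.ker_isPrime _).ne_top))
        exact absurd this (by decide)
    haveI : QuasiSober (ProjectiveSpectrum 𝒜) := inferInstanceAs (QuasiSober ↥(Proj 𝒜))
    haveI : QuasiSober Z := hZ.isClosedEmbedding_subtypeVal.quasiSober
    obtain ⟨b, hb⟩ := QuasiSober.sober D.isIrreducible D.isClosed
    obtain ⟨a, ha⟩ := C.isIrreducible.nonempty
    obtain rfl : b = a := hpt b a (hb.specializes (hCD ha))
    intro z hz
    obtain rfl : b = z := hpt b z (hb.specializes hz)
    exact ha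

end Groth.Agent.PlaneCoprime
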